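import Groth.Agent.LamG.Rational
import Groth.Agent.Lead.AdamsRR.Lambda
import Groth.Agent.Lead.ChernChar.Grading

/-! The determinant of an element of a λ-ring with positive structure. -/

set_option autoImplicit false

open Finset

namespace Groth.Agent.Lead.LamDet

open LambdaRing Groth.Agent.LamG
open Groth.Agent.Lead.AdamsRR (lam_sum_lines)

universe u

noncomputable section

variable {K : Type u} [CommRing K] [LambdaOps K] {P : PosStructure K}

/-- the determinant of a positive element -/
def dp (P : PosStructure K) (e : K) : K := LambdaOps.lam (P.aug e).toNat e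

open Classical in
/-- the determinant as a unit, in additive notation -/
def du (P : PosStructure K) (e : K) : Additive Kˣ :=
  if h : IsUnit (dp P e) then Additive.ofMul h.unit else 0

/-- the value of `du` -/
def vv (a : Additive Kˣ) : K := ((Additive.toMul a : Kˣ) : K)

theorem vv_du {e : K} (he : e ∈ P.pos) : vv (du P e) = dp P e := by
  have h : IsUnit (dp P e) := P.isUnit_lam e he
  simp only [du, dif_pos h]
  rfl

theorem vv_injective : Function.Injective (vv (K := K)) := fun _ _ h => Units.ext h

theorem vv_add (a b : Additive Kˣ) : vv (a + b) = vv a * vv b := rfl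

theorem vv_zero : vv (0 : Additive Kˣ) = 1 := rfl

theorem vv_nsmul (n : ℕ) (a : Additive Kˣ) : vv (n • a) = vv a ^ n := by
  induction n with
  | zero => rw [zero_nsmul, vv_zero, pow_zero]
  | succ n ih => rw [succ_nsmul, vv_add, ih, pow_succ]

theorem dp_sum_lines {s : Multiset K} (hs : ∀ u ∈ s, P.IsLine u) : dp P s.sum = s.prod := by
  rw [dp, aug_sum_lines hs, Int.toNat_natCast, lam_sum_lines hs, Multiset.esymm, Multiset.powersetCard_self]
  simp

variable {L : Type u} [CommRing L] [LambdaOps L] {Q : PosStructure L}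

theorem dp_map {φ : K →+* L} (hφ : IsExtension P Q φ) (e : K) : φ (dp P e) = dp Q (φ e) := by
  rw [dp, dp, hφ.aug_comp, hφ.isLambdaHom]

theorem du_add (hK : HasSplitting K P) {e f : K} (he : e ∈ P.pos) (hf : f ∈ P.pos) :
    du P (e + f) = du P e + du P f := by
  obtain ⟨M, φ, hφ, s, t, hs, ht, hse, hte⟩ := split2 hK he hf
  apply vv_injective
  rw [vv_add, vv_du (P.add_mem e f he hf), vv_du he, vv_du hf]
  apply hφ.injective
  rw [map_mul, dp_map hφ, dp_map hφ, dp_map hφ, map_add, ← hse, ← hte, ← Multiset.sum_add,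
    dp_sum_lines (P := M.posStr), dp_sum_lines hs, dp_sum_lines ht, Multiset.prod_add]
  intro u hu
  rcases Multiset.mem_add.1 hu with hu | hu
  · exact hs u hu
  · exact ht u hu

theorem du_mul (hK : HasSplitting K P) {e f : K} (he : e ∈ P.pos) (hf : f ∈ P.pos) :
    du P (e * f) = P.aug f • du P e + P.aug e • du P f := by
  obtain ⟨M, φ, hφ, s, t, hs, ht, hse, hte⟩ := split2 hK he hf
  obtain ⟨m, hm⟩ : ∃ m : ℕ, P.aug e = m := ⟨Multiset.card s, by rw [← hφ.aug_comp, ← hse, aug_sum_lines hs]⟩
  obtain ⟨n, hn⟩ : ∃ n : ℕ, P.aug f = n := ⟨Multiset.card t, by rw [← hφ.aug_comp, ← hte, aug_sum_lines ht]⟩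
  have hm' : Multiset.card s = m := by
    have h := hφ.aug_comp e
    rw [← hse, aug_sum_lines hs, hm] at h
    exact_mod_cast h
  have hn' : Multiset.card t = n := by
    have h := hφ.aug_comp f
    rw [← hte, aug_sum_lines ht, hn] at h
    exact_mod_cast h
  apply vv_injective
  rw [hm, hn, natCast_zsmul, natCast_zsmul, vv_add, vv_nsmul, vv_nsmul, vv_du (P.mul_mem e f he hf), vv_du he, vv_du hf]
  apply hφ.injective
  have hprod : ∀ (s : Multiset M.carrier), (∀ u ∈ s, M.posStr.IsLine u) →
      (s.bind fun a => t.map (a * ·)).sum = s.sum * t.sum ∧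
        (s.bind fun a => t.map (a * ·)).prod = s.prod ^ Multiset.card t * t.prod ^ Multiset.card s := by
    intro s _
    induction s using Multiset.induction_on with
    | empty => simp
    | cons a s ih =>
      obtain ⟨ih1, ih2⟩ := ih fun u hu => by simp_all
      have e1 : (t.map (a * ·)).sum = a * t.sum := by
        rw [Multiset.sum_map_mul_left, Multiset.map_id']
      have e2 : (t.map (a * ·)).prod = a ^ Multiset.card t * t.prod := by
        rw [Multiset.prod_map_mul, Multiset.map_const', Multiset.prod_replicate, Multiset.map_id']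
      refine ⟨?_, ?_⟩
      · rw [Multiset.cons_bind, Multiset.sum_add, e1, ih1, Multiset.sum_cons, add_mul]
      · rw [Multiset.cons_bind, Multiset.prod_add, e2, ih2, Multiset.prod_cons, Multiset.card_cons, mul_pow,
          pow_succ]
        ring
  rw [map_mul, map_pow, map_pow, dp_map hφ, dp_map hφ, dp_map hφ, map_mul, ← hse, ← hte, ← (hprod s hs).1,
    dp_sum_lines (P := M.posStr), (hprod s hs).2, dp_sum_lines hs, dp_sum_lines ht, hm', hn']
  intro u hu
  obtain ⟨a, ha, hu'⟩ := Multiset.mem_bind.1 hu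
  obtain ⟨b, hb, rfl⟩ := Multiset.mem_map.1 hu'
  exact isLine_mul (hs a ha) (ht b hb)

/-- the determinant -/
def det (P : PosStructure K) (x : K) : Additive Kˣ :=
  du P (P.exists_sub x).choose - du P (P.exists_sub x).choose_spec.choose

theorem det_eq (hK : HasSplitting K P) {x e f : K} (he : e ∈ P.pos) (hf : f ∈ P.pos) (hx : x = e - f) :
    det P x = du P e - du P f := by
  obtain ⟨he', hf', hx'⟩ := (P.exists_sub x).choose_spec.choose_spec
  rw [det, sub_eq_sub_iff_add_eq_add, ← du_add hK he' hf, ← du_add hK he hf']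
  congr 1
  linear_combination hx - hx'

theorem det_pos (hK : HasSplitting K P) {e : K} (he : e ∈ P.pos) : det P e = du P e := by
  have h1 : (1 : K) ∈ P.pos := by simpa using P.natCast_mem 1 Nat.one_pos
  rw [det_eq hK (P.add_mem e 1 he h1) h1 (add_sub_cancel_right e 1).symm, du_add hK he h1, add_sub_cancel_right]

theorem det_add (hK : HasSplitting K P) (x y : K) : det P (x + y) = det P x + det P y := by
  obtain ⟨e, f, he, hf, rfl⟩ := P.exists_sub x
  obtain ⟨e', f', he', hf', rfl⟩ := P.exists_sub y
  rw [det_eq hK he hf rfl, det_eq hK he' hf' rfl,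
    det_eq hK (P.add_mem e e' he he') (P.add_mem f f' hf hf') (show e - f + (e' - f') = e + e' - (f + f') by ring),
    du_add hK he he', du_add hK hf hf']
  abel

/-- `det` as an additive map -/
def detHom (hK : HasSplitting K P) : K →+ Additive Kˣ := AddMonoidHom.mk' (det P) (det_add hK)

theorem det_mul (hK : HasSplitting K P) (x y : K) :
    det P (x * y) = P.aug y • det P x + P.aug x • det P y := by
  induction x using pos_induction (P := P) with
  | hsub a b ha hb =>
    change detHom hK ((a - b) * y) = P.aug y • detHom hK (a - b) + _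
    rw [sub_mul, map_sub, map_sub, map_sub, zsmul_sub, sub_zsmul]
    change det P (a * y) - det P (b * y) = P.aug y • det P a - P.aug y • det P b + _
    rw [ha, hb]; abel
  | hpos e he =>
    induction y using pos_induction (P := P) with
    | hsub a b ha hb =>
      change detHom hK (e * (a - b)) = _ + P.aug e • detHom hK (a - b)
      rw [mul_sub, map_sub, map_sub, map_sub, zsmul_sub, sub_zsmul]
      change det P (e * a) - det P (e * b) = _ + (P.aug e • det P a - P.aug e • det P b)
      rw [ha, hb]; abel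
    | hpos f hf => rw [det_pos hK (P.mul_mem e f he hf), det_pos hK he, det_pos hK hf, du_mul hK he hf]

theorem det_mul_zero (hK : HasSplitting K P) {x y : K} (hx : P.aug x = 0) (hy : P.aug y = 0) : det P (x * y) = 0 := by
  rw [det_mul hK, hx, hy, zero_smul, zero_smul, add_zero]

theorem det_map (hK : HasSplitting K P) (hL : HasSplitting L Q) {φ : K →+* L} (hφ : IsExtension P Q φ) {x : K}
    (h : det Q (φ x) = 0) : det P x = 0 := by
  obtain ⟨e, f, he, hf, rfl⟩ := P.exists_sub x
  rw [map_sub, det_eq hL (hφ.pos_subset e he) (hφ.pos_subset f hf) rfl, sub_eq_zero] at h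
  rw [det_eq hK he hf rfl, sub_eq_zero]
  apply vv_injective
  apply hφ.injective
  rw [vv_du he, vv_du hf, dp_map hφ, dp_map hφ, ← vv_du (hφ.pos_subset e he), ← vv_du (hφ.pos_subset f hf), h]

theorem aug_gamma (hK : HasSplitting K P) {x : K} (hx : P.aug x = 0) {k : ℕ} (hk : 1 ≤ k) : P.aug (gamma k x) = 0 :=
  ChernChar.aug_eq_zero_of_mem hK hk (ChernChar.mem_qG_of_mem (gamma_mem_gammaFil _ hx k))

theorem det_gamma_pos (hK : HasSplitting K P) {e : K} (he : e ∈ P.pos) {k : ℕ} (hk : 2 ≤ k) :
    det P (gamma k (e - ((P.aug e).toNat : K))) = 0 := by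
  obtain ⟨M, φ, hM, hφ, s, hs, hse⟩ := split1_splitting hK he
  refine det_map hK hM hφ ?_
  rw [Groth.Agent.LamG.map_gamma φ hφ.isLambdaHom, map_sub, map_natCast, ← hse, ← card_eq_toNat_aug hφ hs hse]
  have h := congrFun (gammaSeq_sum_line_sub_one (lam_one_eq_zero M.posStr) s fun u hu => isLine_lam (hs u hu)) k
  rw [h, Groth.Agent.Lead.Lam.es, Multiset.esymm]
  change detHom hM _ = 0
  rw [map_multiset_sum]
  refine Multiset.sum_eq_zero fun z hz => ?_
  obtain ⟨w, hw, rfl⟩ := Multiset.mem_map.1 hz
  obtain ⟨t, ht, rfl⟩ := Multiset.mem_map.1 hw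
  obtain ⟨hts, htc⟩ := Multiset.mem_powersetCard.1 ht
  obtain ⟨a, ha⟩ := Multiset.card_pos_iff_exists_mem.1 (show 0 < Multiset.card t by omega)
  obtain ⟨t', rfl⟩ := Multiset.exists_cons_of_mem ha
  rw [Multiset.card_cons] at htc
  obtain ⟨b, hb⟩ := Multiset.card_pos_iff_exists_mem.1 (show 0 < Multiset.card t' by omega)
  obtain ⟨t'', rfl⟩ := Multiset.exists_cons_of_mem hb
  have h0 : ∀ c ∈ a ::ₘ b ::ₘ t'', M.posStr.aug c = 0 := fun c hc => by
    obtain ⟨u, hu, rfl⟩ := Multiset.mem_map.1 (Multiset.mem_of_le hts hc)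
    rw [map_sub, map_one, (hs u hu).2, sub_self]
  change det M.posStr _ = 0
  rw [Multiset.prod_cons, det_mul_zero hM (h0 a (Multiset.mem_cons_self _ _))]
  rw [Multiset.prod_cons, map_mul, h0 b (by simp), zero_mul]

theorem det_gamma_add (hK : HasSplitting K P) {a b : K} (ha : P.aug a = 0) (hb : P.aug b = 0) {k : ℕ} (hk : 2 ≤ k) :
    det P (gamma k (a + b)) = det P (gamma k a) + det P (gamma k b) := by
  obtain ⟨j, rfl⟩ : ∃ j, k = j + 1 + 1 := ⟨k - 2, by omega⟩
  rw [gamma_add, Finset.sum_range_succ, Finset.sum_range_succ', Nat.sub_self, Nat.sub_zero,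
    gamma_zero, gamma_zero, mul_one, one_mul]
  change detHom hK _ = _
  rw [map_add, map_add, map_sum, Finset.sum_eq_zero, zero_add, add_comm]
  · rfl
  · intro i hi
    have := Finset.mem_range.1 hi
    exact det_mul_zero hK (aug_gamma hK ha (by omega)) (aug_gamma hK hb (by omega))

theorem det_gamma (hK : HasSplitting K P) {x : K} (hx : P.aug x = 0) {k : ℕ} (hk : 2 ≤ k) : det P (gamma k x) = 0 := by
  obtain ⟨e, f, he, hf, rfl⟩ := P.exists_sub x
  have h := det_gamma_add hK hx (b := f - ((P.aug f).toNat : K))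
    (by have := P.aug_pos f hf; rw [map_sub, map_natCast]; omega) hk
  rw [det_gamma_pos hK hf hk, add_zero] at h
  rw [map_sub, sub_eq_zero] at hx
  rw [← h, show e - f + (f - ((P.aug f).toNat : K)) = e - ((P.aug e).toNat : K) by rw [hx]; ring]
  exact det_gamma_pos hK he hk

/-- the determinant kills the second step of the γ-filtration -/
theorem det_eq_zero (hK : HasSplitting K P) {x : K} (hx : x ∈ gammaFiltration P 2) : det P x = 0 := by
  rw [gammaFiltration, if_neg (by norm_num)] at hx
  have key : ∀ l : List (ℕ × K), (∀ p ∈ l, P.aug p.2 = 0) →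
      (1 ≤ (l.map Prod.fst).sum → P.aug (l.map fun p => gamma p.1 p.2).prod = 0) ∧
      (2 ≤ (l.map Prod.fst).sum → det P (l.map fun p => gamma p.1 p.2).prod = 0) := by
    intro l
    induction l with
    | nil => intro _; simp
    | cons p l ih =>
      intro h
      obtain ⟨h1, h2⟩ := ih fun q hq => h q (List.mem_cons_of_mem _ hq)
      have hp := h p (List.mem_cons_self ..)
      simp only [List.map_cons, List.sum_cons, List.prod_cons]
      rcases Nat.eq_zero_or_pos p.1 with h0 | h0
      · rw [h0, gamma_zero, one_mul, Nat.zero_add]; exact ⟨h1, h2⟩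
      · refine ⟨fun _ => by rw [map_mul, aug_gamma hK hp h0, zero_mul], fun hw => ?_⟩
        rw [det_mul hK, aug_gamma hK hp h0, zero_smul, add_zero]
        rcases Nat.eq_zero_or_pos (l.map Prod.fst).sum with h0' | h0'
        · rw [det_gamma hK hp (by omega), smul_zero]
        · rw [h1 h0', zero_smul]
  induction hx using AddSubgroup.closure_induction with
  | mem y hy => obtain ⟨l, hl, hw, rfl⟩ := hy; exact (key l hl).2 hw
  | zero => exact map_zero (detHom hK)
  | add a b _ _ ha hb => rw [det_add hK, ha, hb, add_zero]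
  | neg a _ ha => exact (map_neg (detHom hK) a).trans (by rw [show detHom hK a = det P a from rfl, ha, neg_zero])

theorem det_line (hK : HasSplitting K P) {u : K} (hu : P.IsLine u) : vv (det P u) = u := by
  rw [det_pos hK hu.1, vv_du hu.1, dp, hu.2]
  exact LambdaOps.lam_one u

/-- `λ^m e` is the sum of the γ-classes of `e - m` -/
theorem lam_top_eq (hK : HasSplitting K P) {e : K} (he : e ∈ P.pos) {m : ℕ} (hm : (P.aug e).toNat = m) :
    LambdaOps.lam m e = ∑ k ∈ range (m + 1), gamma k (e - (m : K)) := by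
  have hx : ∀ i, m < i → LambdaOps.lam i e = 0 := fun i hi =>
    P.lam_eq_zero e he i (by have := P.aug_pos e he; omega)
  simp only [gamma_sub_natCast (lam_one_eq_zero P) hx]
  rw [Finset.sum_comm, Finset.sum_range_succ, Finset.sum_eq_zero, zero_add, Finset.sum_eq_single m]
  · simp
  · intro k hk hk'
    rw [if_neg (by have := Finset.mem_range.1 hk; omega)]
  · simp
  · intro i hi
    have hi' := Finset.mem_range.1 hi
    rw [← Finset.sum_filter, ← Finset.mul_sum,
      show (range (m + 1)).filter (fun k => i ≤ k) = Finset.Ico i (m + 1) by ext; simp [and_comm],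
      Finset.sum_Ico_eq_sum_range]
    simp only [Nat.add_sub_cancel_left]
    rw [show m + 1 - i = m - i + 1 by omega]
    have h := congrArg (fun z : ℤ => (z : K)) (Int.alternating_sum_range_choose_of_ne (show m - i ≠ 0 by omega))
    push_cast at h
    rw [h, mul_zero]

/-- `λ^m e - 1 ≡ e - m` modulo the second step -/
theorem lam_top_sub_mem (hK : HasSplitting K P) {e : K} (he : e ∈ P.pos) {m : ℕ} (hm : (P.aug e).toNat = m) :
    LambdaOps.lam m e - 1 - (e - (m : K)) ∈ gammaFil P.aug 2 := by
  obtain ⟨j, rfl⟩ : ∃ j, m = j + 1 := ⟨m - 1, by have := P.aug_pos e he; omega⟩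
  rw [lam_top_eq hK he hm, Finset.sum_range_succ', Finset.sum_range_succ', gamma_zero]
  rw [show gamma (0 + 1) (e - ((j + 1 : ℕ) : K)) = e - ((j + 1 : ℕ) : K) from gamma_one _, add_sub_cancel_right,
    add_sub_cancel_right]
  refine Submodule.sum_mem _ fun k _ => gammaFil_anti _ (show 2 ≤ k + 1 + 1 by omega) (gamma_mem_gammaFil _ ?_ _)
  have := P.aug_pos e he
  rw [map_sub, map_natCast]
  omega

end

end Groth.Agent.Lead.LamDet
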